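import Groth.Agent.DTen43.KeyTor
import Groth.Agent.Koszul19.Seq

/-! `K(f) ⊗ K(g) ≅ K(f, g)`. -/

set_option autoImplicit false
set_option linter.unusedSectionVars false
set_option linter.style.haveILetI false

universe u

open CategoryTheory CategoryTheory.Limits MonoidalCategory
open Groth.Agent.DR39 Groth.Agent.DTen43 Groth.Agent.Koszul19

namespace Groth.Agent.Koszul43

variable {A : Type u} [CommRing A]

/-- A morphism out of a degree of a tensor product supported on the summand with given `p`. -/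
noncomputable def dscAt (S Y : DRing.Cx A) {M : ModuleCat.{u} A} (p₀ j₀ i : ℤ) (h₀ : p₀ + j₀ = i)
    (g : S.X p₀ ⊗ Y.X j₀ ⟶ M) : (S ⊗ Y).X i ⟶ M :=
  HomologicalComplex.mapBifunctorDesc fun p q h =>
    if hp : p = p₀ then
      ((S.XIsoOfEq hp).hom ⊗ₘ (Y.XIsoOfEq (show q = j₀ by change p + q = i at h; omega)).hom) ≫ g
    else 0

theorem dscAt_self (S Y : DRing.Cx A) {M : ModuleCat.{u} A} (p₀ j₀ i : ℤ) (h₀ : p₀ + j₀ = i)
    (g : S.X p₀ ⊗ Y.X j₀ ⟶ M) (s : S.X p₀) (y : Y.X j₀) :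
    (dscAt S Y p₀ j₀ i h₀ g).hom (incl S Y s j₀ i h₀ y) = g.hom (s ⊗ₜ[A] y) := by
  have h : HomologicalComplex.ιTensorObj S Y p₀ j₀ i h₀ ≫ dscAt S Y p₀ j₀ i h₀ g = g := by
    rw [dscAt]
    erw [HomologicalComplex.ι_mapBifunctorDesc]
    rw [dif_pos rfl, HomologicalComplex.XIsoOfEq_rfl, HomologicalComplex.XIsoOfEq_rfl]
    simp
  exact LinearMap.congr_fun (congrArg ModuleCat.Hom.hom h) _

theorem dscAt_ne (S Y : DRing.Cx A) {M : ModuleCat.{u} A} (p₀ j₀ i : ℤ) (h₀ : p₀ + j₀ = i)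
    (g : S.X p₀ ⊗ Y.X j₀ ⟶ M) {p : ℤ} (hp : p ≠ p₀) (j : ℤ) (h : p + j = i) (s : S.X p) (y : Y.X j) :
    (dscAt S Y p₀ j₀ i h₀ g).hom (incl S Y s j i h y) = 0 := by
  have h' : HomologicalComplex.ιTensorObj S Y p j i h ≫ dscAt S Y p₀ j₀ i h₀ g = 0 := by
    rw [dscAt]
    erw [HomologicalComplex.ι_mapBifunctorDesc]
    rw [dif_neg hp]
  exact LinearMap.congr_fun (congrArg ModuleCat.Hom.hom h') _

variable (F : A) (Y : DRing.Cx A)

/-- The degree `-1` coordinate. -/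
noncomputable def P₁ (i i' : ℤ) (h : -1 + i' = i) : (twoTerm F ⊗ Y).X i ⟶ Y.X i' :=
  dscAt (twoTerm F) Y (-1) i' i h (((tt₁ F).hom ▷ Y.X i') ≫ (λ_ (Y.X i')).hom)

theorem P₁_g₁ (i i' : ℤ) (h : -1 + i' = i) (a : Y.X i') :
    (P₁ F Y i i' h).hom (incl _ Y (g₁ F) i' i h a) = a := by
  rw [P₁, dscAt_self]
  show ((tt₁ F).hom.hom ((tt₁ F).inv.hom (1 : A))) • a = a
  rw [Iso.inv_hom_id_apply]
  exact one_smul A a

theorem P₁_g₀ (i i' : ℤ) (h : -1 + i' = i) (b : Y.X i) :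
    (P₁ F Y i i' h).hom (incl _ Y (g₀ F) i i (zero_add i) b) = 0 :=
  dscAt_ne _ _ _ _ _ h _ (by decide) i (zero_add i) _ b

/-- Coordinates on `(A --F--> A) ⊗ Y`. -/
noncomputable def coordEquiv (q q₁ : ℤ) (h : q + 1 = q₁) :
    ((twoTerm F ⊗ Y).X q : Type u) ≃ₗ[A] (Y.X q₁ × Y.X q : Type u) :=
  LinearEquiv.ofLinearMap ((P₁ F Y q q₁ (by omega)).hom.prod (P₀ F Y q).hom)
    ((incl _ Y (g₁ F) q₁ q (by omega)).coprod (incl _ Y (g₀ F) q q (zero_add q)))
    (LinearMap.ext fun ⟨a, b⟩ => by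
      simp only [LinearMap.comp_apply, LinearMap.coprod_apply, LinearMap.prod_apply, LinearMap.id_apply]
      refine Prod.ext ?_ ?_
      · change (P₁ F Y q q₁ _).hom (_ + _) = a
        rw [map_add, P₁_g₁, P₁_g₀, add_zero]
      · change (P₀ F Y q).hom (_ + _) = b
        exact P₀_coord F Y q q₁ (by omega) a b)
    (LinearMap.ext fun x => by
      obtain ⟨a, b, rfl⟩ := exists_two_term (twoTerm_isZero F) (g₁ F) (g₀ F) (exists_smul_g₁ F)
        (exists_smul_g₀ F) h x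
      simp only [LinearMap.comp_apply, LinearMap.coprod_apply, LinearMap.prod_apply, LinearMap.id_apply,
        Function.prod_apply]
      rw [P₀_coord, map_add, P₁_g₁, P₁_g₀, add_zero])

theorem coordEquiv_incl (q q₁ : ℤ) (h : q + 1 = q₁) (a : Y.X q₁) (b : Y.X q) :
    coordEquiv F Y q q₁ h
      (incl _ Y (g₁ F) q₁ q (by omega) a + incl _ Y (g₀ F) q q (zero_add q) b) = (a, b) := by
  refine Prod.ext ?_ ?_
  · change (P₁ F Y q q₁ (by omega)).hom (_ + _) = a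
    rw [map_add, P₁_g₁, P₁_g₀, add_zero]
  · exact P₀_coord F Y q q₁ (by omega) a b

/-- `(A --F--> A) ⊗ Y` is the cone of multiplication by `F`. -/
noncomputable def twoTermConeData : ConeData F Y (twoTerm F ⊗ Y) where
  e := coordEquiv F Y
  e_d_fst q q₁ q₂ h h' x := by
    obtain ⟨a, b, rfl⟩ := exists_two_term (twoTerm_isZero F) (g₁ F) (g₀ F) (exists_smul_g₁ F)
      (exists_smul_g₀ F) h x
    rw [coordEquiv_incl, show dd (twoTerm F ⊗ Y) q q₁ = ((twoTerm F ⊗ Y).d q q₁).hom from rfl,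
      d_coord F Y h h', coordEquiv_incl]
  e_d_snd q q₁ q₂ h h' x := by
    obtain ⟨a, b, rfl⟩ := exists_two_term (twoTerm_isZero F) (g₁ F) (g₀ F) (exists_smul_g₁ F)
      (exists_smul_g₀ F) h x
    rw [coordEquiv_incl, show dd (twoTerm F ⊗ Y) q q₁ = ((twoTerm F ⊗ Y).d q q₁).hom from rfl,
      d_coord F Y h h', coordEquiv_incl]

/-- `K(F, l) ≅ (A --F--> A) ⊗ K(l)`. -/
noncomputable def consIso (l : List A) :
    Koszul.koszul A (F :: l) ≅ twoTerm F ⊗ Koszul.koszul A l :=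
  (consData F l).iso (twoTermConeData F (Koszul.koszul A l))

/-- `K(f) ⊗ K(g) ≅ K(f ++ g)`. -/
theorem nonempty_tensor_iso_append : ∀ (f g : List A),
    Nonempty ((Koszul.koszul A f : DRing.Cx A) ⊗ (Koszul.koszul A g : DRing.Cx A) ≅
      (Koszul.koszul A (f ++ g) : DRing.Cx A))
  | [], g => ⟨λ_ (Koszul.koszul A g : DRing.Cx A)⟩
  | F :: l, g => by
    obtain ⟨e⟩ := nonempty_tensor_iso_append l g
    exact ⟨(MonoidalCategory.tensorIso (consIso F l) (Iso.refl _)) ≪≫ α_ _ _ _ ≪≫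
      MonoidalCategory.tensorIso (Iso.refl (twoTerm F)) e ≪≫ (consIso F (l ++ g)).symm⟩

end Groth.Agent.Koszul43
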